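import Mathlib
import Cfsg.Prelude.Def_G2

/-!
Zorn's algebra as a double of the 2 × 2 matrices, and the automorphisms
`(X, W) ↦ (g X g⁻¹, k W g⁻¹)` for `det g = det k`.
-/

set_option autoImplicit false

namespace Cfsg.Agent.Lib.ZornG2

open Matrix Cfsg.Lie

variable {F : Type*} [Field F]

/-- the quaternion part -/
def quat (x : Fin 8 → F) : Matrix (Fin 2) (Fin 2) F := !![x 0, x 1; x 4, x 7]

/-- the orthogonal part -/
def perp (x : Fin 8 → F) : Matrix (Fin 2) (Fin 2) F := !![x 2, x 6; x 3, -x 5]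

/-- back to coordinates -/
def ofPair (X W : Matrix (Fin 2) (Fin 2) F) : Fin 8 → F :=
  ![X 0 0, X 0 1, W 0 0, W 1 0, X 1 0, -W 1 1, W 0 1, X 1 1]

theorem quat_ofPair (X W : Matrix (Fin 2) (Fin 2) F) : quat (ofPair X W) = X := by
  ext i j; fin_cases i <;> fin_cases j <;> simp [quat, ofPair]

theorem perp_ofPair (X W : Matrix (Fin 2) (Fin 2) F) : perp (ofPair X W) = W := by
  ext i j; fin_cases i <;> fin_cases j <;> simp [perp, ofPair]

theorem ofPair_quat_perp (x : Fin 8 → F) : ofPair (quat x) (perp x) = x := by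
  funext i; fin_cases i <;> simp [quat, perp, ofPair]

theorem pair_ext {x y : Fin 8 → F} (h1 : quat x = quat y) (h2 : perp x = perp y) : x = y := by
  rw [← ofPair_quat_perp x, ← ofPair_quat_perp y, h1, h2]

theorem quat_zornMul (x y : Fin 8 → F) :
    quat (zornMul x y) = quat x * quat y - (perp y).adjugate * perp x := by
  ext i j
  fin_cases i <;> fin_cases j <;>
    simp [quat, perp, zornMul, zA, zB, dot3, cross3, Matrix.mul_apply, Fin.sum_univ_two,
      Matrix.adjugate_fin_two] <;> ring

theorem perp_zornMul (x y : Fin 8 → F) :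
    perp (zornMul x y) = perp y * quat x + perp x * (quat y).adjugate := by
  ext i j
  fin_cases i <;> fin_cases j <;>
    simp [quat, perp, zornMul, zA, zB, dot3, cross3, Matrix.mul_apply, Fin.sum_univ_two,
      Matrix.adjugate_fin_two] <;> ring

/-- pairs with equal determinant -/
def pairK (F : Type*) [Field F] : Subgroup (GL (Fin 2) F × GL (Fin 2) F) where
  carrier := {p | (p.1 : Matrix (Fin 2) (Fin 2) F).det = (p.2 : Matrix (Fin 2) (Fin 2) F).det}
  one_mem' := rfl
  mul_mem' {p q} hp hq := by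
    simp only [Set.mem_setOf_eq, Prod.fst_mul, Prod.snd_mul, Units.val_mul, Matrix.det_mul] at *
    rw [hp, hq]
  inv_mem' {p} hp := by
    simp only [Set.mem_setOf_eq, Prod.fst_inv, Prod.snd_inv, Matrix.coe_units_inv,
      Matrix.det_nonsing_inv] at *
    rw [hp]

theorem mem_pairK {p : GL (Fin 2) F × GL (Fin 2) F} :
    p ∈ pairK F ↔ (p.1 : Matrix (Fin 2) (Fin 2) F).det = (p.2 : Matrix (Fin 2) (Fin 2) F).det :=
  Iff.rfl

/-- the linear map of a pair -/
def pairLin (p : GL (Fin 2) F × GL (Fin 2) F) : (Fin 8 → F) →ₗ[F] (Fin 8 → F) where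
  toFun x := ofPair ((p.1 : Matrix (Fin 2) (Fin 2) F) * quat x * ((p.1⁻¹ : GL (Fin 2) F) : Matrix _ _ F))
    ((p.2 : Matrix (Fin 2) (Fin 2) F) * perp x * ((p.1⁻¹ : GL (Fin 2) F) : Matrix _ _ F))
  map_add' x y := by
    have h1 : quat (x + y) = quat x + quat y := by
      ext i j; fin_cases i <;> fin_cases j <;> simp [quat]
    have h2 : perp (x + y) = perp x + perp y := by
      ext i j; fin_cases i <;> fin_cases j <;> simp [perp]; ring
    rw [h1, h2]
    simp only [Matrix.mul_add, Matrix.add_mul]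
    funext i; fin_cases i <;> simp [ofPair]; ring
  map_smul' c x := by
    have h1 : quat (c • x) = c • quat x := by
      ext i j; fin_cases i <;> fin_cases j <;> simp [quat]
    have h2 : perp (c • x) = c • perp x := by
      ext i j; fin_cases i <;> fin_cases j <;> simp [perp]
    rw [h1, h2]
    simp only [Matrix.mul_smul, Matrix.smul_mul, RingHom.id_apply]
    funext i; fin_cases i <;> simp [ofPair]

theorem quat_pairLin (p : GL (Fin 2) F × GL (Fin 2) F) (x : Fin 8 → F) :
    quat (pairLin p x) =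
      (p.1 : Matrix (Fin 2) (Fin 2) F) * quat x * ((p.1⁻¹ : GL (Fin 2) F) : Matrix _ _ F) :=
  quat_ofPair _ _

theorem perp_pairLin (p : GL (Fin 2) F × GL (Fin 2) F) (x : Fin 8 → F) :
    perp (pairLin p x) =
      (p.2 : Matrix (Fin 2) (Fin 2) F) * perp x * ((p.1⁻¹ : GL (Fin 2) F) : Matrix _ _ F) :=
  perp_ofPair _ _

theorem pairLin_mul (p q : GL (Fin 2) F × GL (Fin 2) F) :
    pairLin (p * q) = pairLin p ∘ₗ pairLin q := by
  refine LinearMap.ext fun x => pair_ext ?_ ?_ <;>
    simp only [LinearMap.comp_apply, quat_pairLin, perp_pairLin, Prod.fst_mul, Prod.snd_mul,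
      _root_.mul_inv_rev, Units.val_mul, Matrix.mul_assoc]

theorem pairLin_one : pairLin (1 : GL (Fin 2) F × GL (Fin 2) F) = LinearMap.id := by
  refine LinearMap.ext fun x => pair_ext ?_ ?_ <;> simp [quat_pairLin, perp_pairLin]

theorem pairLin_zornMul {p : GL (Fin 2) F × GL (Fin 2) F} (hp : p ∈ pairK F) (x y : Fin 8 → F) :
    pairLin p (zornMul x y) = zornMul (pairLin p x) (pairLin p y) := by
  set g : Matrix (Fin 2) (Fin 2) F := ((p.1 : GL (Fin 2) F) : Matrix (Fin 2) (Fin 2) F) with hg
  set k : Matrix (Fin 2) (Fin 2) F := ((p.2 : GL (Fin 2) F) : Matrix (Fin 2) (Fin 2) F) with hk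
  set gi : Matrix (Fin 2) (Fin 2) F := ((p.1⁻¹ : GL (Fin 2) F) : Matrix (Fin 2) (Fin 2) F) with hgi
  have h1 : gi * g = 1 := by rw [hg, hgi, ← Units.val_mul, inv_mul_cancel, Units.val_one]
  have h2 : g * gi = 1 := by rw [hg, hgi, ← Units.val_mul, mul_inv_cancel, Units.val_one]
  have h3 : gi * (g.det • (1 : Matrix (Fin 2) (Fin 2) F)) = g.adjugate := by
    rw [← Matrix.mul_adjugate g, ← Matrix.mul_assoc, h1, Matrix.one_mul]
  have h4 : gi.adjugate * k.adjugate * k = g := by
    rw [Matrix.mul_assoc, Matrix.adjugate_mul, ← mem_pairK.1 hp]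
    show gi.adjugate * (g.det • (1 : Matrix (Fin 2) (Fin 2) F)) = g
    rw [← Matrix.adjugate_mul g, ← Matrix.mul_assoc, ← Matrix.adjugate_mul_distrib, h2]
    simp
  have h5 : gi.adjugate * g.adjugate = 1 := by rw [← Matrix.adjugate_mul_distrib, h2]; simp
  refine pair_ext ?_ ?_
  · rw [quat_pairLin, quat_zornMul, quat_zornMul, quat_pairLin, quat_pairLin, perp_pairLin,
      perp_pairLin, ← hg, ← hk, ← hgi, Matrix.adjugate_mul_distrib, Matrix.adjugate_mul_distrib,
      Matrix.mul_sub, Matrix.sub_mul]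
    congr 1
    · simp only [Matrix.mul_assoc]
      rw [← Matrix.mul_assoc gi g, h1, Matrix.one_mul]
    · calc g * ((perp y).adjugate * perp x) * gi
          = (gi.adjugate * k.adjugate * k) * ((perp y).adjugate * perp x) * gi := by rw [h4]
        _ = _ := by
          have hc : ∀ A : Matrix (Fin 2) (Fin 2) F, k.adjugate * k * A = A * (k.adjugate * k) := by
            intro A; rw [Matrix.adjugate_mul]; simp
          have h6 := hc (perp y).adjugate
          simp only [Matrix.mul_assoc] at h6 ⊢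
          rw [← Matrix.mul_assoc k.adjugate k]
          simp only [Matrix.mul_assoc]
          congr 1
          rw [← Matrix.mul_assoc k ((perp y).adjugate), ← Matrix.mul_assoc k.adjugate,
            ← Matrix.mul_assoc k.adjugate, ← Matrix.mul_assoc k.adjugate]
          rw [show k.adjugate * k * (perp y).adjugate = (perp y).adjugate * (k.adjugate * k) from hc _]
          simp only [Matrix.mul_assoc]
  · rw [perp_pairLin, perp_zornMul, perp_zornMul, perp_pairLin, perp_pairLin, quat_pairLin,
      quat_pairLin, ← hg, ← hk, ← hgi, Matrix.adjugate_mul_distrib, Matrix.adjugate_mul_distrib,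
      Matrix.mul_add, Matrix.add_mul]
    congr 1
    · simp only [Matrix.mul_assoc]
      rw [← Matrix.mul_assoc gi g, h1, Matrix.one_mul]
    · have hgg : gi * gi.adjugate = (gi.det) • (1 : Matrix (Fin 2) (Fin 2) F) := Matrix.mul_adjugate gi
      calc k * (perp x * (quat y).adjugate) * gi
          = k * perp x * (quat y).adjugate * (gi * (gi.adjugate * g.adjugate)) := by
            rw [h5, Matrix.mul_one]
            simp only [Matrix.mul_assoc]
        _ = _ := by
          rw [← Matrix.mul_assoc gi, hgg]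
          simp only [Matrix.mul_assoc, Matrix.smul_mul, Matrix.one_mul, Matrix.mul_smul]
          rw [← Matrix.mul_assoc gi gi.adjugate, hgg]
          simp [Matrix.mul_assoc]

/-- the automorphism of a pair -/
def pairHom (F : Type*) [Field F] : ↥(pairK F) →* ↥(Cfsg.Lie.G2 F) :=
  (MonoidHom.toHomUnits
    { toFun := fun p : ↥(pairK F) => LinearMap.toMatrix' (pairLin p.1)
      map_one' := by rw [Subgroup.coe_one, pairLin_one, LinearMap.toMatrix'_id]
      map_mul' := fun p q => by
        rw [Subgroup.coe_mul, pairLin_mul, LinearMap.toMatrix'_comp] }).codRestrict _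
    fun p x y => by
      show LinearMap.toMatrix' (pairLin p.1) *ᵥ zornMul x y =
        zornMul (LinearMap.toMatrix' (pairLin p.1) *ᵥ x) (LinearMap.toMatrix' (pairLin p.1) *ᵥ y)
      simp only [LinearMap.toMatrix'_mulVec]
      exact pairLin_zornMul p.2 x y

theorem pairHom_mulVec (p : ↥(pairK F)) (x : Fin 8 → F) :
    ((pairHom F p : GL (Fin 8) F) : Matrix (Fin 8) (Fin 8) F) *ᵥ x = pairLin p.1 x :=
  LinearMap.toMatrix'_mulVec _ x

end Cfsg.Agent.Lib.ZornG2
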