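import Mathlib
import Cfsg.Prelude.Def_G2

/-!
The automorphisms of Zorn's algebra given by `SL₃`, and the stabilizer of the idempotent `e₀`.
-/

set_option autoImplicit false

namespace Cfsg.Agent.Lib.ZornG2

open Matrix Cfsg.Lie

variable {F : Type*} [Field F]

theorem cross3_mulVec (M : Matrix (Fin 3) (Fin 3) F) (a c : Fin 3 → F) :
    cross3 (M *ᵥ a) (M *ᵥ c) = M.adjugateᵀ *ᵥ cross3 a c := by
  funext i
  fin_cases i <;>
    simp [cross3, Matrix.mulVec, dotProduct, Fin.sum_univ_three, Matrix.adjugate_fin_three] <;> ring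

theorem cross3_adjugate_mulVec (M : Matrix (Fin 3) (Fin 3) F) (hM : M.det = 1) (b d : Fin 3 → F) :
    cross3 (M.adjugateᵀ *ᵥ b) (M.adjugateᵀ *ᵥ d) = M *ᵥ cross3 b d := by
  have e : M.adjugateᵀ.adjugateᵀ = M := by
    rw [Matrix.adjugate_transpose, Matrix.transpose_transpose, Matrix.adjugate_adjugate _ (by simp),
      hM]
    simp
  rw [cross3_mulVec, e]

theorem dot3_mulVec (M : Matrix (Fin 3) (Fin 3) F) (hM : M.det = 1) (a b : Fin 3 → F) :
    dot3 (M *ᵥ a) (M.adjugateᵀ *ᵥ b) = dot3 a b := by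
  have e : ∀ u v : Fin 3 → F, dot3 u v = u ⬝ᵥ v := fun u v => by
    simp [dot3, dotProduct, Fin.sum_univ_three]
  rw [e, e, dotProduct_mulVec, Matrix.vecMul_transpose, Matrix.mulVec_mulVec, Matrix.adjugate_mul,
    hM, one_smul, Matrix.one_mulVec]

theorem dot3_comm (a b : Fin 3 → F) : dot3 a b = dot3 b a := by simp only [dot3]; ring

/-- coordinates from parts -/
def mkZ (α : F) (a b : Fin 3 → F) (β : F) : Fin 8 → F :=
  ![α, a 0, a 1, a 2, b 0, b 1, b 2, β]

theorem zA_mkZ (α : F) (a b : Fin 3 → F) (β : F) : zA F (mkZ α a b β) = a := by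
  funext i; fin_cases i <;> rfl

theorem zB_mkZ (α : F) (a b : Fin 3 → F) (β : F) : zB F (mkZ α a b β) = b := by
  funext i; fin_cases i <;> rfl

theorem mkZ_eta (x : Fin 8 → F) : mkZ (x 0) (zA F x) (zB F x) (x 7) = x := by
  funext i; fin_cases i <;> rfl

theorem zornMul_mkZ (α : F) (a b : Fin 3 → F) (β γ : F) (c d : Fin 3 → F) (δ : F) :
    zornMul (mkZ α a b β) (mkZ γ c d δ) =
      mkZ (α * γ + dot3 a d) (α • c + δ • a - cross3 b d) (γ • b + β • d + cross3 a c)
        (dot3 b c + β * δ) := by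
  simp only [zornMul, zA_mkZ, zB_mkZ]
  funext i; fin_cases i <;> simp [mkZ]

/-- the linear map of a matrix of size three -/
def sl3Lin (M : Matrix (Fin 3) (Fin 3) F) : (Fin 8 → F) →ₗ[F] (Fin 8 → F) where
  toFun x := mkZ (x 0) (M *ᵥ zA F x) (M.adjugateᵀ *ᵥ zB F x) (x 7)
  map_add' x y := by
    have ha : zA F (x + y) = zA F x + zA F y := by funext i; fin_cases i <;> rfl
    have hb : zB F (x + y) = zB F x + zB F y := by funext i; fin_cases i <;> rfl
    rw [ha, hb, Matrix.mulVec_add, Matrix.mulVec_add]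
    funext i; fin_cases i <;> rfl
  map_smul' c x := by
    have ha : zA F (c • x) = c • zA F x := by funext i; fin_cases i <;> rfl
    have hb : zB F (c • x) = c • zB F x := by funext i; fin_cases i <;> rfl
    rw [ha, hb, Matrix.mulVec_smul, Matrix.mulVec_smul]
    funext i; fin_cases i <;> rfl

theorem sl3Lin_mkZ (M : Matrix (Fin 3) (Fin 3) F) (α : F) (a b : Fin 3 → F) (β : F) :
    sl3Lin M (mkZ α a b β) = mkZ α (M *ᵥ a) (M.adjugateᵀ *ᵥ b) β := by
  show mkZ _ _ _ _ = _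
  rw [zA_mkZ, zB_mkZ]
  rfl

theorem sl3Lin_zornMul {M : Matrix (Fin 3) (Fin 3) F} (hM : M.det = 1) (x y : Fin 8 → F) :
    sl3Lin M (zornMul x y) = zornMul (sl3Lin M x) (sl3Lin M y) := by
  rw [← mkZ_eta x, ← mkZ_eta y, zornMul_mkZ, sl3Lin_mkZ, sl3Lin_mkZ, sl3Lin_mkZ, zornMul_mkZ,
    dot3_mulVec M hM, dot3_comm (M.adjugateᵀ *ᵥ zB F x), dot3_mulVec M hM,
    dot3_comm (zA F y) (zB F x), cross3_adjugate_mulVec M hM, cross3_mulVec]
  congr 1
  · rw [Matrix.mulVec_sub, Matrix.mulVec_add, Matrix.mulVec_smul, Matrix.mulVec_smul]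
  · rw [Matrix.mulVec_add, Matrix.mulVec_add, Matrix.mulVec_smul, Matrix.mulVec_smul]

theorem sl3Lin_mul (M N : Matrix (Fin 3) (Fin 3) F) : sl3Lin (M * N) = sl3Lin M ∘ₗ sl3Lin N := by
  refine LinearMap.ext fun x => ?_
  rw [← mkZ_eta x, LinearMap.comp_apply, sl3Lin_mkZ, sl3Lin_mkZ, sl3Lin_mkZ,
    Matrix.adjugate_mul_distrib, Matrix.transpose_mul, Matrix.mulVec_mulVec, Matrix.mulVec_mulVec]

theorem sl3Lin_one : sl3Lin (1 : Matrix (Fin 3) (Fin 3) F) = LinearMap.id := by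
  refine LinearMap.ext fun x => ?_
  rw [← mkZ_eta x, sl3Lin_mkZ]
  simp

/-- `SL₃` inside the automorphism group -/
def sl3Hom (F : Type*) [Field F] : SpecialLinearGroup (Fin 3) F →* ↥(Cfsg.Lie.G2 F) :=
  (MonoidHom.toHomUnits
    { toFun := fun M : SpecialLinearGroup (Fin 3) F => LinearMap.toMatrix' (sl3Lin M.1)
      map_one' := by
        show LinearMap.toMatrix' (sl3Lin (1 : Matrix (Fin 3) (Fin 3) F)) = 1
        rw [sl3Lin_one, LinearMap.toMatrix'_id]
      map_mul' := fun M N => by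
        show LinearMap.toMatrix' (sl3Lin (M.1 * N.1)) = _
        rw [sl3Lin_mul, LinearMap.toMatrix'_comp] }).codRestrict _
    fun M x y => by
      show LinearMap.toMatrix' (sl3Lin M.1) *ᵥ zornMul x y =
        zornMul (LinearMap.toMatrix' (sl3Lin M.1) *ᵥ x) (LinearMap.toMatrix' (sl3Lin M.1) *ᵥ y)
      simp only [LinearMap.toMatrix'_mulVec]
      exact sl3Lin_zornMul M.2 x y

/-- the action of the automorphism group -/
def act (g : ↥(Cfsg.Lie.G2 F)) (x : Fin 8 → F) : Fin 8 → F :=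
  ((g : GL (Fin 8) F) : Matrix (Fin 8) (Fin 8) F) *ᵥ x

theorem act_zornMul (g : ↥(Cfsg.Lie.G2 F)) (x y : Fin 8 → F) :
    act g (zornMul x y) = zornMul (act g x) (act g y) := g.2 x y

theorem act_mul (g h : ↥(Cfsg.Lie.G2 F)) (x : Fin 8 → F) : act (g * h) x = act g (act h x) := by
  simp [act, Matrix.mulVec_mulVec]

theorem act_one (x : Fin 8 → F) : act (1 : ↥(Cfsg.Lie.G2 F)) x = x := Matrix.one_mulVec x

theorem act_injective (g : ↥(Cfsg.Lie.G2 F)) : Function.Injective (act g) := fun x y h => by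
  have := congrArg (act g⁻¹) h
  rwa [← act_mul, ← act_mul, inv_mul_cancel, act_one, act_one] at this

theorem act_sl3Hom (M : SpecialLinearGroup (Fin 3) F) (x : Fin 8 → F) :
    act (sl3Hom F M) x = sl3Lin M.1 x :=
  LinearMap.toMatrix'_mulVec _ x

/-- the identity element -/
def zOne (F : Type*) [Field F] : Fin 8 → F := mkZ 1 0 0 1

theorem zornMul_zOne (x : Fin 8 → F) : zornMul (zOne F) x = x := by
  rw [← mkZ_eta x, zOne, zornMul_mkZ]
  funext i; fin_cases i <;> simp [mkZ, dot3, cross3]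

theorem zornMul_zOne_right (x : Fin 8 → F) : zornMul x (zOne F) = x := by
  rw [← mkZ_eta x, zOne, zornMul_mkZ]
  funext i; fin_cases i <;> simp [mkZ, dot3, cross3]

theorem act_zOne (g : ↥(Cfsg.Lie.G2 F)) : act g (zOne F) = zOne F := by
  have h := act_zornMul g (act g⁻¹ (zOne F)) (zOne F)
  rw [zornMul_zOne_right, ← act_mul, mul_inv_cancel, act_one, zornMul_zOne] at h
  exact h.symm

/-- the idempotent `e₀` -/
def zE (F : Type*) [Field F] : Fin 8 → F := mkZ 1 0 0 0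

theorem zornMul_zE_left (α : F) (a b : Fin 3 → F) (β : F) :
    zornMul (zE F) (mkZ α a b β) = mkZ α a 0 0 := by
  rw [zE, zornMul_mkZ]
  funext i; fin_cases i <;> simp [mkZ, dot3, cross3]

theorem zornMul_zE_right (α : F) (a b : Fin 3 → F) (β : F) :
    zornMul (mkZ α a b β) (zE F) = mkZ α 0 b 0 := by
  rw [zE, zornMul_mkZ]
  funext i; fin_cases i <;> simp [mkZ, dot3, cross3]

theorem mkZ_inj {α β α' β' : F} {a b a' b' : Fin 3 → F} (h : mkZ α a b β = mkZ α' a' b' β') :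
    α = α' ∧ a = a' ∧ b = b' ∧ β = β' :=
  ⟨congrFun h 0, by rw [← zA_mkZ α a b β, h, zA_mkZ], by rw [← zB_mkZ α a b β, h, zB_mkZ],
    congrFun h 7⟩

/-- the `a`-block of an automorphism -/
def aBlock (g : ↥(Cfsg.Lie.G2 F)) : Matrix (Fin 3) (Fin 3) F :=
  Matrix.of fun i j => zA F (act g (mkZ 0 (Pi.single j 1) 0 0)) i

theorem aBlock_spec {g : ↥(Cfsg.Lie.G2 F)} (hg : act g (zE F) = zE F) (a : Fin 3 → F) :
    act g (mkZ 0 a 0 0) = mkZ 0 (aBlock g *ᵥ a) 0 0 := by
  have hform : ∀ a, ∃ a', act g (mkZ 0 a 0 0) = mkZ 0 a' 0 0 := by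
    intro a
    set y := act g (mkZ 0 a 0 0) with hy
    have h1 := act_zornMul g (zE F) (mkZ 0 a 0 0)
    have h2 := act_zornMul g (mkZ 0 a 0 0) (zE F)
    rw [zornMul_zE_left, hg, ← hy, ← mkZ_eta y, zornMul_zE_left] at h1
    have hz : act g (mkZ 0 0 0 0) = mkZ 0 0 0 0 := by
      have : (mkZ 0 0 0 0 : Fin 8 → F) = 0 := by funext i; fin_cases i <;> rfl
      rw [this]; exact Matrix.mulVec_zero _
    rw [zornMul_zE_right, hg, ← hy, hz, ← mkZ_eta y, zornMul_zE_right] at h2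
    obtain ⟨h20, -, h2b, -⟩ := mkZ_inj h2
    obtain ⟨-, -, -, h17⟩ := mkZ_inj h1
    exact ⟨zA F y, by rw [← mkZ_eta y, zA_mkZ, ← h20, ← h2b, h17]⟩
  obtain ⟨a', ha'⟩ := hform a
  rw [ha']
  congr 1
  have e : a' = zA F (act g (mkZ 0 a 0 0)) := by rw [ha', zA_mkZ]
  rw [e]
  have hlin : mkZ 0 a 0 0 = ∑ j, a j • mkZ 0 (Pi.single j 1) 0 0 := by
    funext i
    fin_cases i <;> simp [mkZ, Fin.sum_univ_three]
  funext i
  rw [hlin, act, Matrix.mulVec_sum]
  simp only [Matrix.mulVec_smul]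
  fin_cases i <;>
    simp [aBlock, act, Matrix.mulVec, dotProduct, Fin.sum_univ_three, zA, mul_comm]

theorem aBlock_mul {g h : ↥(Cfsg.Lie.G2 F)} (hg : act g (zE F) = zE F) (hh : act h (zE F) = zE F) :
    aBlock (g * h) = aBlock g * aBlock h := by
  have hgh : act (g * h) (zE F) = zE F := by rw [act_mul, hh, hg]
  refine Matrix.ext_of_mulVec_single fun j => ?_
  rw [← Matrix.mulVec_mulVec]
  have := aBlock_spec hgh (Pi.single j 1)
  rw [act_mul, aBlock_spec hh, aBlock_spec hg] at this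
  exact (mkZ_inj this).2.1.symm

theorem act_bPart {g : ↥(Cfsg.Lie.G2 F)} (hg : act g (zE F) = zE F) (a c : Fin 3 → F) :
    act g (mkZ 0 0 (cross3 a c) 0) = mkZ 0 0 (cross3 (aBlock g *ᵥ a) (aBlock g *ᵥ c)) 0 := by
  have e : ∀ u v : Fin 3 → F, mkZ 0 0 (cross3 u v) 0 = zornMul (mkZ 0 u 0 0) (mkZ 0 v 0 0) := by
    intro u v
    rw [zornMul_mkZ]
    funext i; fin_cases i <;> simp [mkZ, dot3, cross3]
  rw [e, act_zornMul, aBlock_spec hg, aBlock_spec hg, ← e]

theorem cross3_single (i : Fin 3) :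
    cross3 (Pi.single (i + 1) (1 : F)) (Pi.single (i + 2) 1) = Pi.single i 1 := by
  funext j
  fin_cases i <;> fin_cases j <;> simp [cross3, Pi.single_apply]

theorem act_zE7 {g : ↥(Cfsg.Lie.G2 F)} (hg : act g (zE F) = zE F) :
    act g (mkZ 0 0 0 1) = mkZ 0 0 0 1 := by
  have e : (mkZ 0 0 0 1 : Fin 8 → F) = zOne F - zE F := by
    funext i; fin_cases i <;> simp [mkZ, zOne, zE]
  rw [e]
  show Matrix.mulVec _ _ = _
  rw [Matrix.mulVec_sub]
  show act g (zOne F) - act g (zE F) = _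
  rw [act_zOne, hg]

theorem aBlock_det {g : ↥(Cfsg.Lie.G2 F)} (hg : act g (zE F) = zE F) : (aBlock g).det = 1 := by
  set M := aBlock g
  have e : (mkZ 0 0 0 1 : Fin 8 → F) =
      zornMul (mkZ 0 0 (cross3 (Pi.single 1 1) (Pi.single 2 1)) 0) (mkZ 0 (Pi.single 0 1) 0 0) := by
    rw [zornMul_mkZ]
    funext i; fin_cases i <;> simp [mkZ, dot3, cross3]
  have h1 := act_zE7 hg
  conv_lhs at h1 => rw [e, act_zornMul, act_bPart hg, aBlock_spec hg, zornMul_mkZ]
  have h2 := (mkZ_inj h1).2.2.2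
  rw [Matrix.det_fin_three]
  simp [dot3, cross3] at h2
  linear_combination h2

/-- the stabilizer of `e₀` embeds in `SL₃` -/
def stabE (F : Type*) [Field F] : Subgroup ↥(Cfsg.Lie.G2 F) where
  carrier := {g | act g (zE F) = zE F}
  one_mem' := act_one _
  mul_mem' {g h} hg hh := by
    show act (g * h) (zE F) = zE F
    rw [act_mul, show act h (zE F) = zE F from hh]; exact hg
  inv_mem' {g} hg := act_injective g (by rw [← act_mul, mul_inv_cancel, act_one]; exact hg.symm)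

/-- the block homomorphism -/
def blockHom (F : Type*) [Field F] : ↥(stabE F) →* SpecialLinearGroup (Fin 3) F where
  toFun g := ⟨aBlock g.1, aBlock_det g.2⟩
  map_one' := Subtype.ext (Matrix.ext_of_mulVec_single fun j => by
    have := aBlock_spec (act_one (zE F)) (Pi.single j (1 : F))
    rw [act_one] at this
    show aBlock (1 : ↥(Cfsg.Lie.G2 F)) *ᵥ Pi.single j 1 = (1 : Matrix (Fin 3) (Fin 3) F) *ᵥ Pi.single j 1
    rw [Matrix.one_mulVec]
    exact (mkZ_inj this).2.1.symm)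
  map_mul' g h := Subtype.ext (aBlock_mul g.2 h.2)

theorem blockHom_injective : Function.Injective (blockHom F) := by
  rw [injective_iff_map_eq_one]
  intro g hg
  have hM : aBlock g.1 = 1 := congrArg Subtype.val hg
  have ha : ∀ a, act g.1 (mkZ 0 a 0 0) = mkZ 0 a 0 0 := fun a => by
    rw [aBlock_spec g.2, hM, Matrix.one_mulVec]
  have hb : ∀ i : Fin 3, act g.1 (mkZ 0 0 (Pi.single i 1) 0) = mkZ 0 0 (Pi.single i 1) 0 := fun i => by
    rw [← cross3_single i, act_bPart g.2, hM, Matrix.one_mulVec, Matrix.one_mulVec]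
  have h0 : act g.1 (zE F) = zE F := g.2
  apply Subtype.ext; apply Subtype.ext; apply Units.ext
  refine Matrix.ext_of_mulVec_single fun j => ?_
  show act g.1 (Pi.single j 1) = (1 : Matrix (Fin 8) (Fin 8) F) *ᵥ Pi.single j 1
  rw [Matrix.one_mulVec]
  fin_cases j
  · convert h0 using 1 <;> (try congr 1) <;>
      (funext i; fin_cases i <;> simp [zE, mkZ])
  · convert ha (Pi.single 0 1) using 1 <;> (try congr 1) <;> (funext i; fin_cases i <;> simp [mkZ])
  · convert ha (Pi.single 1 1) using 1 <;> (try congr 1) <;> (funext i; fin_cases i <;> simp [mkZ])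
  · convert ha (Pi.single 2 1) using 1 <;> (try congr 1) <;> (funext i; fin_cases i <;> simp [mkZ])
  · convert hb 0 using 1 <;> (try congr 1) <;> (funext i; fin_cases i <;> simp [mkZ])
  · convert hb 1 using 1 <;> (try congr 1) <;> (funext i; fin_cases i <;> simp [mkZ])
  · convert hb 2 using 1 <;> (try congr 1) <;> (funext i; fin_cases i <;> simp [mkZ])
  · convert act_zE7 g.2 using 1 <;> (try congr 1) <;> (funext i; fin_cases i <;> simp [mkZ])

end Cfsg.Agent.Lib.ZornG2
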