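import Mathlib
import Cfsg.Agent.Lib.ZornG2.Pairs
import Cfsg.Agent.Lib.ZornG2.SL3

/-!
The automorphism group of Zorn's algebra is transitive on non-trivial idempotents, which number
`q³(q³+1)`.
-/

set_option autoImplicit false

namespace Cfsg.Agent.Lib.ZornG2

open Matrix Cfsg.Lie

variable {F : Type*} [Field F]

theorem mkZ_zero : (mkZ 0 0 0 0 : Fin 8 → F) = 0 := by funext i; fin_cases i <;> rfl

/-- the non-trivial idempotents -/
def idem (F : Type*) [Field F] : Set (Fin 8 → F) :=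
  {x | zornMul x x = x ∧ x ≠ 0 ∧ x ≠ zOne F}

theorem dot3_smul_self (s : F) (a b : Fin 3 → F) :
    zornMul (mkZ s a b (1 - s)) (mkZ s a b (1 - s)) =
      mkZ (s * s + dot3 a b) a b (dot3 a b + (1 - s) * (1 - s)) := by
  rw [zornMul_mkZ, dot3_comm b a]
  funext i; fin_cases i <;> simp [mkZ, cross3] <;> ring

theorem mem_idem_iff (x : Fin 8 → F) :
    x ∈ idem F ↔ x 7 = 1 - x 0 ∧ dot3 (zA F x) (zB F x) = x 0 - x 0 * x 0 := by
  constructor
  · rintro ⟨h1, h0, h1'⟩
    conv_lhs at h1 => rw [← mkZ_eta x, zornMul_mkZ]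
    conv_rhs at h1 => rw [← mkZ_eta x]
    obtain ⟨hα, ha, hb, hβ⟩ := mkZ_inj h1
    have hc : ∀ v : Fin 3 → F, cross3 v v = 0 := fun v => by
      funext i; fin_cases i <;> simp [cross3] <;> ring
    rw [hc, sub_zero, ← add_smul] at ha
    rw [hc, add_zero, ← add_smul] at hb
    rw [dot3_comm (zB F x)] at hβ
    have hs : x 0 + x 7 = 1 := by
      by_contra hne
      have hz : ∀ v : Fin 3 → F, (x 0 + x 7) • v = v → v = 0 := fun v hv => funext fun i => by
        have h := congrFun hv i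
        simp only [Pi.smul_apply, smul_eq_mul] at h
        by_contra hvi
        exact hne (mul_right_cancel₀ hvi (by rw [one_mul]; exact h))
      have hA := hz _ ha
      have hB := hz _ hb
      have hd : dot3 (zA F x) (zB F x) = 0 := by rw [hA]; simp [dot3]
      rw [hd] at hα hβ
      have e0 : x 0 = 0 ∨ x 0 = 1 := by
        by_cases h : x 0 = 0
        · exact Or.inl h
        · exact Or.inr (mul_left_cancel₀ h (by linear_combination hα))
      have e7 : x 7 = 0 ∨ x 7 = 1 := by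
        by_cases h : x 7 = 0
        · exact Or.inl h
        · exact Or.inr (mul_left_cancel₀ h (by linear_combination hβ))
      rcases e0 with e0 | e0 <;> rcases e7 with e7 | e7
      · exact h0 (by rw [← mkZ_eta x, e0, e7, hA, hB, mkZ_zero])
      · exact hne (by rw [e0, e7, zero_add])
      · exact hne (by rw [e0, e7, add_zero])
      · exact h1' (by rw [← mkZ_eta x, e0, e7, hA, hB, zOne])
    exact ⟨by linear_combination hs, by linear_combination hα⟩
  · rintro ⟨h7, hd⟩
    refine ⟨?_, ?_, ?_⟩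
    · conv_lhs => rw [← mkZ_eta x, h7, dot3_smul_self, hd]
      conv_rhs => rw [← mkZ_eta x, h7]
      congr 1 <;> ring
    · rintro rfl; simp at h7
    · rintro rfl; simp [zOne, mkZ] at h7

theorem act_zero (g : ↥(Cfsg.Lie.G2 F)) : act g (0 : Fin 8 → F) = 0 := Matrix.mulVec_zero _

theorem act_mem_idem (g : ↥(Cfsg.Lie.G2 F)) {x : Fin 8 → F} (hx : x ∈ idem F) :
    act g x ∈ idem F := by
  obtain ⟨h1, h2, h3⟩ := hx
  exact ⟨by rw [← act_zornMul, h1], fun e => h2 (act_injective g (by rw [e, act_zero])),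
    fun e => h3 (act_injective g (by rw [e, act_zOne]))⟩

theorem exists_move_vec (a : Fin 3 → F) (ha : a ≠ 0) :
    ∃ M : SpecialLinearGroup (Fin 3) F, M.1 *ᵥ a = ![1, 0, 0] := by
  have key : ∀ P : Matrix (Fin 3) (Fin 3) F, P.det = 1 → P *ᵥ ![1, 0, 0] = a →
      ∃ M : SpecialLinearGroup (Fin 3) F, M.1 *ᵥ a = ![1, 0, 0] := fun P hP hPa =>
    ⟨⟨P.adjugate, by rw [Matrix.det_adjugate, hP, one_pow]⟩, by
      rw [← hPa, Matrix.mulVec_mulVec, Matrix.adjugate_mul, hP, one_smul, Matrix.one_mulVec]⟩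
  by_cases h0 : a 0 = 0
  · by_cases h1 : a 1 = 0
    · have h2 : a 2 ≠ 0 := fun h2 => ha (funext fun i => by fin_cases i <;> assumption)
      refine key !![0, 1, 0; 0, 0, (a 2)⁻¹; a 2, 0, 0] ?_ ?_
      · simp [Matrix.det_fin_three, h2]
      · funext i; fin_cases i <;> simp [Matrix.mulVec, dotProduct, Fin.sum_univ_three, h0, h1]
    · refine key !![0, -(a 1)⁻¹, 0; a 1, 0, 0; a 2, 0, 1] ?_ ?_
      · simp [Matrix.det_fin_three, h1]
      · funext i; fin_cases i <;> simp [Matrix.mulVec, dotProduct, Fin.sum_univ_three, h0]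
  · refine key !![a 0, 0, 0; a 1, (a 0)⁻¹, 0; a 2, 0, 1] ?_ ?_
    · simp [Matrix.det_fin_three, h0]
    · funext i; fin_cases i <;> simp [Matrix.mulVec, dotProduct, Fin.sum_univ_three]

/-- the diagonal pair -/
def diagPair (g : GL (Fin 2) F) : ↥(pairK F) := ⟨(g, g), rfl⟩

theorem act_diagPair (g : GL (Fin 2) F) (x : Fin 8 → F) :
    act (pairHom F (diagPair g)) x = pairLin (g, g) x := pairHom_mulVec _ x

/-- idempotents in the quaternion subalgebra -/
theorem exists_move_quat {x : Fin 8 → F} (hx : x ∈ idem F) (hp : perp x = 0) :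
    ∃ g : ↥(Cfsg.Lie.G2 F), act g x = zE F := by
  obtain ⟨h7, hd⟩ := (mem_idem_iff x).1 hx
  have e2 : x 2 = 0 := congrFun (congrFun hp 0) 0
  have e6 : x 6 = 0 := congrFun (congrFun hp 0) 1
  have e3 : x 3 = 0 := congrFun (congrFun hp 1) 0
  have e5 : x 5 = 0 := neg_eq_zero.1 (congrFun (congrFun hp 1) 1)
  have huv : x 1 * x 4 = x 0 - x 0 * x 0 := by
    simpa [dot3, zA, zB, e2, e3, e5, e6] using hd
  obtain ⟨P, hdet, hP⟩ : ∃ P : Matrix (Fin 2) (Fin 2) F, P.det ≠ 0 ∧
      quat x * P = P * !![1, 0; 0, 0] := by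
    by_cases h0 : x 0 = 0
    · refine ⟨!![x 1, 1; 1, -x 4], ?_, ?_⟩
      · have : x 1 * x 4 = 0 := by rw [huv, h0]; ring
        simp [Matrix.det_fin_two, this]
      · have huv0 : x 1 * x 4 = 0 := by rw [huv, h0]; ring
        rcases mul_eq_zero.1 huv0 with h | h <;>
          (ext i j
           fin_cases i <;> fin_cases j <;>
             simp [quat, Matrix.mul_apply, Fin.sum_univ_two, h7, h0, h])
    · refine ⟨!![x 0, -x 1; x 4, x 0], ?_, ?_⟩
      · simp only [Matrix.det_fin_two_of]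
        intro h; exact h0 (by linear_combination h - huv)
      · ext i j
        fin_cases i <;> fin_cases j <;> simp [quat, Matrix.mul_apply, Fin.sum_univ_two, h7]
        · linear_combination huv
        · ring
        · ring
        · linear_combination -huv
  let Pu : GL (Fin 2) F := Matrix.GeneralLinearGroup.mkOfDetNeZero P hdet
  refine ⟨pairHom F (diagPair Pu⁻¹), ?_⟩
  rw [act_diagPair]
  refine pair_ext ?_ ?_
  · rw [quat_pairLin, inv_inv]
    show ((Pu⁻¹ : GL (Fin 2) F) : Matrix (Fin 2) (Fin 2) F) * quat x * P = _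
    rw [Matrix.mul_assoc, hP, ← Matrix.mul_assoc,
      show ((Pu⁻¹ : GL (Fin 2) F) : Matrix (Fin 2) (Fin 2) F) * P = 1 from Units.inv_mul Pu,
      Matrix.one_mul]
    ext i j; fin_cases i <;> fin_cases j <;> simp [quat, zE, mkZ]
  · rw [perp_pairLin, hp, Matrix.mul_zero, Matrix.zero_mul]
    ext i j; fin_cases i <;> fin_cases j <;> simp [perp, zE, mkZ]

/-- idempotents with `a = 0` -/
theorem exists_move_a_zero {x : Fin 8 → F} (hx : x ∈ idem F) (ha : zA F x = 0) :
    ∃ g : ↥(Cfsg.Lie.G2 F), act g x = zE F := by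
  have e2 : x 2 = 0 := congrFun ha 1
  have e3 : x 3 = 0 := congrFun ha 2
  by_cases hb : zB F x = 0
  · have e5 : x 5 = 0 := congrFun hb 1
    have e6 : x 6 = 0 := congrFun hb 2
    exact exists_move_quat hx (by ext i j; fin_cases i <;> fin_cases j <;> simp [perp, e2, e3, e5, e6])
  · obtain ⟨M, hM⟩ := exists_move_vec (zB F x) hb
    let M' : SpecialLinearGroup (Fin 3) F := ⟨M.1.adjugateᵀ, by
      rw [Matrix.det_transpose, Matrix.det_adjugate, M.2, one_pow]⟩
    have hM' : M'.1.adjugateᵀ = M.1 := by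
      show M.1.adjugateᵀ.adjugateᵀ = M.1
      rw [Matrix.adjugate_transpose, Matrix.transpose_transpose,
        Matrix.adjugate_adjugate _ (by simp), M.2]
      simp
    have hy := act_mem_idem (sl3Hom F M') hx
    have he : act (sl3Hom F M') x = mkZ (x 0) 0 ![1, 0, 0] (x 7) := by
      rw [act_sl3Hom]
      conv_lhs => rw [← mkZ_eta x, sl3Lin_mkZ, hM', hM, ha, Matrix.mulVec_zero]
    rw [he] at hy
    obtain ⟨g, hg⟩ := exists_move_quat hy (by
      ext i j; fin_cases i <;> fin_cases j <;> simp [perp, mkZ])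
    exact ⟨g * sl3Hom F M', by rw [act_mul, he, hg]⟩

/-- transitivity on idempotents -/
theorem exists_move {x : Fin 8 → F} (hx : x ∈ idem F) :
    ∃ g : ↥(Cfsg.Lie.G2 F), act g x = zE F := by
  by_cases ha : zA F x = 0
  · exact exists_move_a_zero hx ha
  obtain ⟨M, hM⟩ := exists_move_vec (zA F x) ha
  set b := M.1.adjugateᵀ *ᵥ zB F x
  have he : act (sl3Hom F M) x = mkZ (x 0) ![1, 0, 0] b (x 7) := by
    rw [act_sl3Hom]
    conv_lhs => rw [← mkZ_eta x, sl3Lin_mkZ, hM]
  have hy := act_mem_idem (sl3Hom F M) hx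
  rw [he] at hy
  suffices ∃ g : ↥(Cfsg.Lie.G2 F), act g (mkZ (x 0) ![1, 0, 0] b (x 7)) = zE F by
    obtain ⟨g, hg⟩ := this
    exact ⟨g * sl3Hom F M, by rw [act_mul, he, hg]⟩
  obtain ⟨h7, hd⟩ := (mem_idem_iff _).1 hy
  have h7' : x 7 = 1 - x 0 := h7
  have hd' : b 0 = x 0 - x 0 * x 0 := by
    rw [zA_mkZ, zB_mkZ] at hd
    simpa [dot3, mkZ] using hd
  by_cases hb0 : b 0 = 0
  · have hc : (1 - 2 * x 0) * (1 - 2 * x 0) = 1 := by linear_combination 4 * hd' - 4 * hb0
    let P : Matrix (Fin 2) (Fin 2) F := !![1, 1 - 2 * x 0; 0, 1]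
    have hP : P.det ≠ 0 := by simp [P, Matrix.det_fin_two]
    let Pu : GL (Fin 2) F := Matrix.GeneralLinearGroup.mkOfDetNeZero P hP
    have hinv : ((Pu⁻¹ : GL (Fin 2) F) : Matrix (Fin 2) (Fin 2) F) =
        !![1, -(1 - 2 * x 0); 0, 1] := by
      have e : (!![1, -(1 - 2 * x 0); 0, 1] : Matrix (Fin 2) (Fin 2) F) * P = 1 := by
        ext i j; fin_cases i <;> fin_cases j <;> simp [P, Matrix.mul_apply, Fin.sum_univ_two]
      calc ((Pu⁻¹ : GL (Fin 2) F) : Matrix (Fin 2) (Fin 2) F)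
          = (!![1, -(1 - 2 * x 0); 0, 1] * P) * ((Pu⁻¹ : GL (Fin 2) F) : Matrix (Fin 2) (Fin 2) F) := by
            rw [e, Matrix.one_mul]
        _ = _ := by
          rw [Matrix.mul_assoc,
            show P * ((Pu⁻¹ : GL (Fin 2) F) : Matrix (Fin 2) (Fin 2) F) = 1 from Units.mul_inv Pu,
            Matrix.mul_one]
    set z := mkZ (x 0) ![1, 0, 0] b (x 7) with hz
    have hz' := act_mem_idem (pairHom F (diagPair Pu⁻¹)) hy
    obtain ⟨g, hg⟩ := exists_move_a_zero hz' (by
      rw [act_diagPair]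
      have hA : ∀ w : Fin 8 → F, zA F w = ![quat w 0 1, perp w 0 0, perp w 1 0] := fun w => rfl
      rw [hA, quat_pairLin, perp_pairLin, inv_inv, show (Pu : Matrix (Fin 2) (Fin 2) F) = P from rfl,
        hinv]
      funext i
      fin_cases i <;>
        simp [P, z, quat, perp, mkZ, Matrix.mul_apply, Fin.sum_univ_two, h7', hb0]
      linear_combination (-1 : F) * hc)
    exact ⟨g * pairHom F (diagPair Pu⁻¹), by rw [act_mul, hg]⟩
  · let N : Matrix (Fin 3) (Fin 3) F := !![1, b 1 / b 0, b 2 / b 0; 0, 1, 0; 0, 0, 1]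
    have hN : N.det = 1 := by simp [N, Matrix.det_fin_three]
    have he' : act (sl3Hom F ⟨N, hN⟩) (mkZ (x 0) ![1, 0, 0] b (x 7)) =
        mkZ (x 0) ![1, 0, 0] ![b 0, 0, 0] (x 7) := by
      rw [show act (sl3Hom F ⟨N, hN⟩) (mkZ (x 0) ![1, 0, 0] b (x 7)) =
        sl3Lin N (mkZ (x 0) ![1, 0, 0] b (x 7)) from act_sl3Hom _ _, sl3Lin_mkZ]
      congr 1
      · funext i; fin_cases i <;> simp [N, Matrix.mulVec, dotProduct, Fin.sum_univ_three]
      · funext i
        fin_cases i <;>
          simp [N, Matrix.mulVec, dotProduct, Fin.sum_univ_three, Matrix.adjugate_fin_three] <;>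
          field_simp <;> ring
    have hy' := act_mem_idem (sl3Hom F ⟨N, hN⟩) hy
    rw [he'] at hy'
    obtain ⟨g, hg⟩ := exists_move_quat hy' (by
      ext i j; fin_cases i <;> fin_cases j <;> simp [perp, mkZ])
    exact ⟨g * sl3Hom F ⟨N, hN⟩, by rw [act_mul, he', hg]⟩

theorem zE_mem : zE F ∈ idem F := (mem_idem_iff _).2 ⟨by simp [zE, mkZ], by simp [zE, mkZ, dot3, zA, zB]⟩

/-- the orbit map is onto and identifies cosets with idempotents -/
theorem natCard_quot_stabE :
    Nat.card (↥(Cfsg.Lie.G2 F) ⧸ stabE F) = Nat.card ↥(idem F) := by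
  let f : ↥(Cfsg.Lie.G2 F) ⧸ stabE F → ↥(idem F) :=
    Quotient.lift (fun g => (⟨act g (zE F), act_mem_idem g zE_mem⟩ : ↥(idem F))) fun g h hgh => by
      have hgh' : g⁻¹ * h ∈ stabE F := QuotientGroup.leftRel_apply.1 hgh
      apply Subtype.ext
      show act g (zE F) = act h (zE F)
      conv_rhs => rw [show h = g * (g⁻¹ * h) by group, act_mul,
        show act (g⁻¹ * h) (zE F) = zE F from hgh']
  refine Nat.card_eq_of_bijective f ⟨?_, ?_⟩
  · rintro ⟨g⟩ ⟨h⟩ e
    have e' : act g (zE F) = act h (zE F) := congrArg Subtype.val e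
    refine Quotient.sound (QuotientGroup.leftRel_apply.2 ?_)
    show act (g⁻¹ * h) (zE F) = zE F
    rw [act_mul, ← e', ← act_mul, inv_mul_cancel, act_one]
  · rintro ⟨x, hx⟩
    obtain ⟨g, hg⟩ := exists_move hx
    refine ⟨QuotientGroup.mk g⁻¹, Subtype.ext ?_⟩
    show act g⁻¹ (zE F) = x
    rw [← hg, ← act_mul, inv_mul_cancel, act_one]

theorem natCard_level [Fintype F] {a : Fin 3 → F} (ha : a ≠ 0) (c : F) :
    Nat.card {b : Fin 3 → F // dot3 a b = c} = Nat.card F ^ 2 := by
  obtain ⟨i, hi⟩ : ∃ i, a i ≠ 0 := Function.ne_iff.1 ha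
  let u : Fin 3 → F := Pi.single i (a i)⁻¹
  have hu : dot3 a u = 1 := by
    fin_cases i <;> simp_all [dot3, u]
  have hlin : ∀ (b : Fin 3 → F) (s : F), dot3 a (b + s • u) = dot3 a b + s := fun b s => by
    have h := hu
    simp only [dot3, Pi.add_apply, Pi.smul_apply, smul_eq_mul] at h ⊢
    linear_combination s * h
  let e : (F × {b : Fin 3 → F // dot3 a b = c}) ≃ (Fin 3 → F) :=
    { toFun := fun p => p.2.1 + (p.1 - c) • u
      invFun := fun b => (dot3 a b, ⟨b + (c - dot3 a b) • u, by rw [hlin]; ring⟩)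
      left_inv := fun p => by
        have h : dot3 a (p.2.1 + (p.1 - c) • u) = p.1 := by rw [hlin, p.2.2]; ring
        refine Prod.ext h (Subtype.ext ?_)
        simp only [h]
        funext j
        simp only [Pi.add_apply, Pi.smul_apply, smul_eq_mul]
        ring
      right_inv := fun b => by
        funext j
        simp only [Pi.add_apply, Pi.smul_apply, smul_eq_mul]
        ring }
  have h := Nat.card_congr e
  rw [Nat.card_prod, Nat.card_fun] at h
  simp only [Nat.card_eq_fintype_card, Fintype.card_fin] at h ⊢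
  exact Nat.eq_of_mul_eq_mul_left Fintype.card_pos (h.trans (by ring))

theorem natCard_idem [Fintype F] :
    Nat.card ↥(idem F) = Nat.card F ^ 3 * (Nat.card F ^ 3 + 1) := by
  classical
  let e : ↥(idem F) ≃ Σ (a : Fin 3 → F) (s : F), {b : Fin 3 → F // dot3 a b = s - s * s} :=
    { toFun := fun x => ⟨zA F x.1, x.1 0, zB F x.1, ((mem_idem_iff _).1 x.2).2⟩
      invFun := fun p => ⟨mkZ p.2.1 p.1 p.2.2.1 (1 - p.2.1), (mem_idem_iff _).2
        ⟨rfl, by rw [zA_mkZ, zB_mkZ]; exact p.2.2.2⟩⟩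
      left_inv := fun x => Subtype.ext (by
        show mkZ (x.1 0) (zA F x.1) (zB F x.1) (1 - x.1 0) = x.1
        rw [← ((mem_idem_iff _).1 x.2).1, mkZ_eta])
      right_inv := fun p => by
        obtain ⟨a, s, b, hb⟩ := p
        have h1 : zA F (mkZ s a b (1 - s)) = a := zA_mkZ _ _ _ _
        have h2 : zB F (mkZ s a b (1 - s)) = b := zB_mkZ _ _ _ _
        refine Sigma.ext h1 (HEq.trans ?_ HEq.rfl)
        have h0 : (mkZ s a b (1 - s)) 0 = s := rfl
        dsimp only
        congr! }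
  set q := Nat.card F with hq
  have hq' : Fintype.card F = q := (Nat.card_eq_fintype_card).symm
  have hfun : Fintype.card (Fin 3 → F) = q ^ 3 := by simp [hq']
  have hzero : Nat.card (Σ s : F, {b : Fin 3 → F // dot3 0 b = s - s * s}) = 2 * q ^ 3 := by
    have e0 : (Σ s : F, {b : Fin 3 → F // dot3 0 b = s - s * s}) ≃ {s : F // s - s * s = 0} × (Fin 3 → F) :=
      { toFun := fun p => (⟨p.1, by rw [← p.2.2]; simp [dot3]⟩, p.2.1)
        invFun := fun p => ⟨p.1.1, p.2, by rw [p.1.2]; simp [dot3]⟩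
        left_inv := fun _ => rfl
        right_inv := fun _ => rfl }
    rw [Nat.card_congr e0, Nat.card_prod, Nat.card_eq_fintype_card (α := Fin 3 → F), hfun]
    congr 1
    have : {s : F | s - s * s = 0} = {0, 1} := by
      ext s
      simp only [Set.mem_setOf_eq, Set.mem_insert_iff, Set.mem_singleton_iff]
      constructor
      · intro h
        by_cases hs : s = 0
        · exact Or.inl hs
        · exact Or.inr (mul_left_cancel₀ hs (by linear_combination -h))
      · rintro (rfl | rfl) <;> ring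
    show Nat.card ↥({s : F | s - s * s = 0}) = 2
    rw [this, Nat.card_coe_set_eq, Set.ncard_pair zero_ne_one]
  rw [Nat.card_congr e, Nat.card_sigma, ← Finset.add_sum_erase _ _ (Finset.mem_univ 0), hzero,
    Finset.sum_congr rfl fun a ha => by
      rw [Nat.card_sigma, Finset.sum_congr rfl fun s _ => natCard_level (Finset.ne_of_mem_erase ha) _],
    Finset.sum_const, Finset.sum_const, Finset.card_erase_of_mem (Finset.mem_univ _), Finset.card_univ,
    Finset.card_univ, hfun, hq', smul_eq_mul, smul_eq_mul]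
  have h1 : 1 ≤ q ^ 3 := Nat.one_le_pow _ _ Nat.card_pos
  obtain ⟨m, hm⟩ := Nat.exists_eq_add_of_le h1
  rw [show q * q ^ 2 = q ^ 3 by ring, hm, Nat.add_sub_cancel_left]
  ring

end Cfsg.Agent.Lib.ZornG2
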