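import Mathlib
import Cfsg.Agent.Lib.ZornG2.Idem
import Cfsg.Agent.Lib.ClassicalSylowTwo.Linear

/-!
A Sylow 2-subgroup of the automorphism group of Zorn's algebra in odd characteristic.
-/

set_option autoImplicit false

namespace Cfsg.Agent.Lib.ZornG2

open Matrix Cfsg.Lie ClassicalSylowTwo

open scoped commutatorElement

universe u

variable {F : Type u} [Field F] [Fintype F]

theorem fact_SL2 (hF : Odd (Fintype.card F)) :
    (Nat.card (SpecialLinearGroup (Fin 2) F)).factorization 2 =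
      padicValNat 2 (Fintype.card F ^ 2 - 1) := by
  have h1 := v_special hF 2 (by norm_num)
  have h2 : (Nat.card (GL (Fin 2) F)).factorization 2 =
      1 * (padicValNat 2 (Fintype.card F - 1) + padicValNat 2 (Fintype.card F ^ 2 - 1)) +
        padicValNat 2 (Nat.factorial 1) := v_general_even hF 1
  simp only [mul_one, one_mul, Nat.factorial_one, padicValNat_one_right, add_zero] at h2
  omega

theorem fact_G2_le (hF : Odd (Fintype.card F)) :
    (Nat.card ↥(Cfsg.Lie.G2 F)).factorization 2 ≤ 2 * padicValNat 2 (Fintype.card F ^ 2 - 1) := by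
  haveI : Fact (Nat.Prime 2) := ⟨Nat.prime_two⟩
  have hq2 : 2 ≤ Fintype.card F := Fintype.one_lt_card
  have h1 := Subgroup.index_mul_card (stabE F)
  rw [Subgroup.index_eq_card, natCard_quot_stabE, natCard_idem, Nat.card_eq_fintype_card] at h1
  have hS : (Nat.card ↥(stabE F)).factorization 2 ≤
      (Nat.card (SpecialLinearGroup (Fin 3) F)).factorization 2 :=
    (Nat.factorization_le_iff_dvd Nat.card_pos.ne' Nat.card_pos.ne').2
      (Subgroup.card_dvd_of_injective _ blockHom_injective) 2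
  have h3 := v_special hF 3 (by norm_num)
  rw [v_general hF, show glProd (Fintype.card F) 3 = glProd (Fintype.card F) (2 * 1 + 1) from rfl, v_glProd_succ_odd hF hq2,
    v_glProd_even hF hq2 1] at h3
  simp only [one_mul, Nat.factorial_one, padicValNat_one_right, add_zero] at h3
  have hq3 : padicValNat 2 ((Fintype.card F) ^ 3 + 1) + padicValNat 2 ((Fintype.card F) - 1) = padicValNat 2 ((Fintype.card F) ^ 2 - 1) := by
    have hv : padicValNat 2 ((Fintype.card F) ^ 6 - 1) = padicValNat 2 ((Fintype.card F) ^ 3 - 1) + padicValNat 2 ((Fintype.card F) ^ 3 + 1) := by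
      have h2m : 2 ≤ (Fintype.card F) ^ 3 := le_trans hq2 (Nat.le_self_pow (by norm_num) (Fintype.card F))
      rw [← padicValNat.mul (by omega) (by omega)]
      congr 1
      obtain ⟨X, hX⟩ : ∃ X, (Fintype.card F) ^ 3 = X + 1 := ⟨(Fintype.card F) ^ 3 - 1, by omega⟩
      rw [show (Fintype.card F) ^ 6 = ((Fintype.card F) ^ 3) ^ 2 by ring, hX, Nat.add_sub_cancel,
        show (X + 1) ^ 2 = X * (X + 1 + 1) + 1 by ring, Nat.add_sub_cancel]
    have h6 : padicValNat 2 ((Fintype.card F) ^ (2 * 3) - 1) = _ := v_even hF hq2 (show 3 ≠ 0 by norm_num)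
    rw [show 2 * 3 = 6 by norm_num, padicValNat.eq_zero_of_not_dvd (show ¬ 2 ∣ 3 by norm_num)] at h6
    have h5 := v_odd hF (i := 3) ⟨1, rfl⟩
    omega
  rw [← h1, Nat.factorization_mul (mul_ne_zero (pow_ne_zero _ (by omega)) (by omega))
    Nat.card_pos.ne', Finsupp.add_apply, Nat.factorization_def _ Nat.prime_two,
    padicValNat.mul (pow_ne_zero _ (by omega)) (by omega), v_pow_odd hF]
  omega

/-- `SL₂ × SL₂` in the pairs -/
def slPair (F : Type u) [Field F] :
    SpecialLinearGroup (Fin 2) F × SpecialLinearGroup (Fin 2) F →* ↥(pairK F) :=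
  ((SpecialLinearGroup.toGL).prodMap (SpecialLinearGroup.toGL)).codRestrict _ fun p => by
    rw [mem_pairK]
    show p.1.1.det = p.2.1.det
    rw [p.1.2, p.2.2]

theorem slPair_coe_fst (p : SpecialLinearGroup (Fin 2) F × SpecialLinearGroup (Fin 2) F) :
    ((slPair F p).1.1 : Matrix (Fin 2) (Fin 2) F) = p.1.1 := rfl

theorem slPair_coe_snd (p : SpecialLinearGroup (Fin 2) F × SpecialLinearGroup (Fin 2) F) :
    ((slPair F p).1.2 : Matrix (Fin 2) (Fin 2) F) = p.2.1 := rfl

theorem slPair_injective : Function.Injective (slPair F) := fun p q h => by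
  refine Prod.ext (Subtype.ext ?_) (Subtype.ext ?_)
  · rw [← slPair_coe_fst, h, slPair_coe_fst]
  · rw [← slPair_coe_snd, h, slPair_coe_snd]

/-- the common determinant -/
def pairDet (F : Type u) [Field F] : ↥(pairK F) →* Fˣ :=
  Matrix.GeneralLinearGroup.det.comp
    ((MonoidHom.fst (GL (Fin 2) F) (GL (Fin 2) F)).comp (pairK F).subtype)

theorem pairDet_coe (p : ↥(pairK F)) :
    (pairDet F p : F) = (p.1.1 : Matrix (Fin 2) (Fin 2) F).det := rfl

theorem range_slPair : (slPair F).range = (pairDet F).ker := by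
  ext p
  constructor
  · rintro ⟨q, rfl⟩
    refine MonoidHom.mem_ker.2 (Units.ext ?_)
    rw [pairDet_coe, slPair_coe_fst, q.1.2, Units.val_one]
  · intro hp
    have h1 : (p.1.1 : Matrix (Fin 2) (Fin 2) F).det = 1 := by
      rw [← pairDet_coe, MonoidHom.mem_ker.1 hp, Units.val_one]
    refine ⟨(⟨_, h1⟩, ⟨_, (mem_pairK.1 p.2).symm.trans h1⟩), Subtype.ext ?_⟩
    exact Prod.ext (Units.ext rfl) (Units.ext rfl)

/-- diagonal matrices `diag(a, b)` -/
def diag2 (a b : Fˣ) : GL (Fin 2) F :=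
  ⟨!![(a : F), 0; 0, (b : F)], !![((a⁻¹ : Fˣ) : F), 0; 0, ((b⁻¹ : Fˣ) : F)],
    by ext i j; fin_cases i <;> fin_cases j <;> simp [Matrix.mul_apply, Fin.sum_univ_two],
    by ext i j; fin_cases i <;> fin_cases j <;> simp [Matrix.mul_apply, Fin.sum_univ_two]⟩

/-- antidiagonal matrices -/
def anti2 (a b : Fˣ) : GL (Fin 2) F :=
  ⟨!![0, (a : F); (b : F), 0], !![0, ((b⁻¹ : Fˣ) : F); ((a⁻¹ : Fˣ) : F), 0],
    by ext i j; fin_cases i <;> fin_cases j <;> simp [Matrix.mul_apply, Fin.sum_univ_two],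
    by ext i j; fin_cases i <;> fin_cases j <;> simp [Matrix.mul_apply, Fin.sum_univ_two]⟩

theorem diag2_mul_diag2 (a b c d : Fˣ) : diag2 a b * diag2 c d = diag2 (a * c) (b * d) :=
  Units.ext (by ext i j; fin_cases i <;> fin_cases j <;> simp [diag2, Matrix.mul_apply, Fin.sum_univ_two])

theorem diag2_mul_anti2 (a b c d : Fˣ) : diag2 a b * anti2 c d = anti2 (a * c) (b * d) :=
  Units.ext (by ext i j; fin_cases i <;> fin_cases j <;> simp [diag2, anti2, Matrix.mul_apply, Fin.sum_univ_two])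

theorem anti2_mul_diag2 (a b c d : Fˣ) : anti2 a b * diag2 c d = anti2 (a * d) (b * c) :=
  Units.ext (by ext i j; fin_cases i <;> fin_cases j <;> simp [diag2, anti2, Matrix.mul_apply, Fin.sum_univ_two])

theorem anti2_mul_anti2 (a b c d : Fˣ) : anti2 a b * anti2 c d = diag2 (a * d) (b * c) :=
  Units.ext (by ext i j; fin_cases i <;> fin_cases j <;> simp [diag2, anti2, Matrix.mul_apply, Fin.sum_univ_two])

theorem diag2_inv (a b : Fˣ) : (diag2 a b)⁻¹ = diag2 a⁻¹ b⁻¹ := Units.ext rfl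

theorem anti2_inv (a b : Fˣ) : (anti2 a b)⁻¹ = anti2 b⁻¹ a⁻¹ := Units.ext rfl

theorem diag2_one : diag2 (1 : Fˣ) 1 = 1 :=
  Units.ext (by ext i j; fin_cases i <;> fin_cases j <;> simp [diag2])

/-- monomial matrices with entries in `T` -/
def mono2 (T : Subgroup Fˣ) : Subgroup (GL (Fin 2) F) where
  carrier := {g | ∃ a ∈ T, ∃ b ∈ T, g = diag2 a b ∨ g = anti2 a b}
  one_mem' := ⟨1, one_mem T, 1, one_mem T, Or.inl diag2_one.symm⟩
  mul_mem' := by
    rintro _ _ ⟨a, ha, b, hb, rfl | rfl⟩ ⟨c, hc, d, hd, rfl | rfl⟩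
    · exact ⟨_, mul_mem ha hc, _, mul_mem hb hd, Or.inl (diag2_mul_diag2 a b c d)⟩
    · exact ⟨_, mul_mem ha hc, _, mul_mem hb hd, Or.inr (diag2_mul_anti2 a b c d)⟩
    · exact ⟨_, mul_mem ha hd, _, mul_mem hb hc, Or.inr (anti2_mul_diag2 a b c d)⟩
    · exact ⟨_, mul_mem ha hd, _, mul_mem hb hc, Or.inl (anti2_mul_anti2 a b c d)⟩
  inv_mem' := by
    rintro _ ⟨a, ha, b, hb, rfl | rfl⟩
    · exact ⟨_, inv_mem ha, _, inv_mem hb, Or.inl (diag2_inv a b)⟩
    · exact ⟨_, inv_mem hb, _, inv_mem ha, Or.inr (anti2_inv a b)⟩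

theorem isPGroup_mono2 {T : Subgroup Fˣ} (hT : IsPGroup 2 T) : IsPGroup 2 (mono2 T) := by
  haveI : Fact (Nat.Prime 2) := ⟨Nat.prime_two⟩
  obtain ⟨v, hv⟩ := hT.exists_card_eq
  have hpow : ∀ a ∈ T, a ^ 2 ^ v = 1 := fun a ha => by
    have h : (⟨a, ha⟩ : T) ^ 2 ^ v = 1 := hv ▸ pow_card_eq_one'
    exact congrArg Subtype.val h
  have hdiag : ∀ a b : Fˣ, ∀ n : ℕ, diag2 a b ^ n = diag2 (a ^ n) (b ^ n) := fun a b n => by
    induction n with
    | zero => rw [pow_zero, pow_zero, pow_zero, diag2_one]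
    | succ n ih => rw [pow_succ, ih, diag2_mul_diag2, ← pow_succ, ← pow_succ]
  intro g
  refine ⟨v + 1, Subtype.ext ?_⟩
  rw [SubmonoidClass.coe_pow, pow_succ', pow_mul]
  obtain ⟨a, ha, b, hb, h | h⟩ := g.2 <;> rw [h, pow_two]
  · rw [diag2_mul_diag2, hdiag, hpow _ (mul_mem ha ha), hpow _ (mul_mem hb hb), diag2_one]
    rfl
  · rw [anti2_mul_anti2, hdiag, hpow _ (mul_mem ha hb), hpow _ (mul_mem hb ha), diag2_one]
    rfl

/-- diagonal embedding into pairs -/
def diagK (F : Type u) [Field F] : GL (Fin 2) F →* ↥(pairK F) where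
  toFun g := diagPair g
  map_one' := rfl
  map_mul' _ _ := rfl

theorem eq_of_pairHom_eq_one {p : ↥(pairK F)} (h : pairHom F p = 1) :
    ∃ c : Fˣ, p = diagK F (diag2 c c) := by
  have hx : ∀ x, pairLin p.1 x = x := fun x => by
    rw [← pairHom_mulVec, h]
    exact Matrix.one_mulVec x
  set g := ((p.1.1 : GL (Fin 2) F) : Matrix (Fin 2) (Fin 2) F) with hg
  set k := ((p.1.2 : GL (Fin 2) F) : Matrix (Fin 2) (Fin 2) F) with hk
  set gi := ((p.1.1⁻¹ : GL (Fin 2) F) : Matrix (Fin 2) (Fin 2) F) with hgi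
  have hinv : gi * g = 1 := Units.inv_mul _
  have h1 : ∀ X : Matrix (Fin 2) (Fin 2) F, g * X = X * g := fun X => by
    have := congrArg quat (hx (ofPair X 0))
    rw [quat_pairLin, quat_ofPair, ← hg, ← hgi] at this
    conv_rhs => rw [← this, Matrix.mul_assoc, hinv, Matrix.mul_one]
  have h2 : ∀ W : Matrix (Fin 2) (Fin 2) F, k * W = W * g := fun W => by
    have := congrArg perp (hx (ofPair 0 W))
    rw [perp_pairLin, perp_ofPair, ← hk, ← hgi] at this
    conv_rhs => rw [← this, Matrix.mul_assoc, hinv, Matrix.mul_one]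
  have hkg : k = g := by simpa using h2 1
  have a01 := congrFun (congrFun (h1 !![1, 0; 0, 0]) 0) 1
  have a10 := congrFun (congrFun (h1 !![1, 0; 0, 0]) 1) 0
  have a11 := congrFun (congrFun (h1 !![0, 1; 0, 0]) 0) 1
  simp [Matrix.mul_apply, Fin.sum_univ_two] at a01 a10 a11
  have hc : g 0 0 ≠ 0 := fun h0 => by
    have : IsUnit g.det := by
      rw [← Matrix.isUnit_iff_isUnit_det]; exact (p.1.1).isUnit
    rw [Matrix.det_fin_two, h0] at this
    simp [← a11, h0, ← a01, a10] at this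
  refine ⟨Units.mk0 (g 0 0) hc, Subtype.ext (Prod.ext (Units.ext ?_) (Units.ext ?_))⟩
  · show g = !![g 0 0, 0; 0, g 0 0]
    ext i j
    fin_cases i <;> fin_cases j
    · rfl
    · simpa using a01.symm
    · simpa using a10
    · simpa using a11.symm
  · show k = !![g 0 0, 0; 0, g 0 0]
    rw [hkg]
    ext i j
    fin_cases i <;> fin_cases j
    · rfl
    · simpa using a01.symm
    · simpa using a10
    · simpa using a11.symm

theorem sqComm_sylow_SL2_sq (hF : Odd (Fintype.card F))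
    (S : Sylow 2 (SpecialLinearGroup (Fin 2) F × SpecialLinearGroup (Fin 2) F)) :
    SqComm (S : Subgroup (SpecialLinearGroup (Fin 2) F × SpecialLinearGroup (Fin 2) F)) := by
  haveI : Fact (Nat.Prime 2) := ⟨Nat.prime_two⟩
  obtain ⟨Q⟩ : Nonempty (Sylow 2 (SpecialLinearGroup (Fin 2) F)) := Sylow.nonempty
  obtain ⟨j, hj, -, ⟨iso⟩⟩ := LinGroup.exists_sylow_two_equiv_quaternion hF Q
  have hQ : SqComm (Q : Subgroup (SpecialLinearGroup (Fin 2) F)) :=
    (quaternion_sqComm ((Nat.even_pow).2 ⟨even_two, by omega⟩)).of_equiv iso.symm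
  obtain ⟨e⟩ := exists_sylow_equiv
    ((Q : Subgroup (SpecialLinearGroup (Fin 2) F)).subtype.prodMap
      (Q : Subgroup (SpecialLinearGroup (Fin 2) F)).subtype)
    (Prod.map_injective.2 ⟨Subtype.val_injective, Subtype.val_injective⟩)
    (by rw [Nat.card_prod, Q.card_eq_multiplicity, Nat.card_prod,
      Nat.factorization_mul Nat.card_pos.ne' Nat.card_pos.ne', Finsupp.add_apply, pow_add]) S
  exact (sqComm_prod hQ hQ).of_equiv e

theorem sqComm_sylow (hF : Odd (Fintype.card F)) (P : Sylow 2 ↥(Cfsg.Lie.G2 F)) :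
    SqComm (P : Subgroup ↥(Cfsg.Lie.G2 F)) := by
  haveI : Fact (Nat.Prime 2) := ⟨Nat.prime_two⟩
  set L := padicValNat 2 (Fintype.card F ^ 2 - 1)
  obtain ⟨T⟩ : Nonempty (Sylow 2 Fˣ) := Sylow.nonempty
  obtain ⟨⟨d, hdT⟩, hd⟩ := IsCyclic.exists_generator (α := ↥(T : Subgroup Fˣ))
  have hTmem : ∀ x ∈ (T : Subgroup Fˣ), x ∈ Subgroup.zpowers d := fun x hx => by
    obtain ⟨i, hi⟩ := Subgroup.mem_zpowers_iff.1 (hd ⟨x, hx⟩)
    exact Subgroup.mem_zpowers_iff.2 ⟨i, congrArg Subtype.val hi⟩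
  have hTle : ∀ H : Subgroup Fˣ, IsPGroup 2 H → H ≤ (T : Subgroup Fˣ) := fun H hH => by
    obtain ⟨T', hT'⟩ := hH.exists_le_sylow
    obtain ⟨g, rfl⟩ := MulAction.exists_smul_eq Fˣ T T'
    refine hT'.trans ?_
    rw [Sylow.coe_subgroup_smul]
    intro x hx
    rw [Subgroup.mem_pointwise_smul_iff_inv_smul_mem] at hx
    simpa [MulAut.smul_def, mul_comm g⁻¹ x] using hx
  have hneg : (-1 : Fˣ) ∈ (T : Subgroup Fˣ) := by
    refine hTle (Subgroup.zpowers (-1)) ?_ (Subgroup.mem_zpowers _)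
    intro x
    obtain ⟨i, hi⟩ := Subgroup.mem_zpowers_iff.1 x.2
    refine ⟨1, Subtype.ext ?_⟩
    rw [SubmonoidClass.coe_pow, ← hi, pow_one, pow_two, ← _root_.zpow_add, ← two_mul, _root_.zpow_mul]
    simp
  have hM : IsPGroup 2 ((mono2 (T : Subgroup Fˣ)).map (diagK F)) :=
    (isPGroup_mono2 T.isPGroup').map _
  obtain ⟨R, hR⟩ := hM.exists_le_sylow
  set R' : Subgroup ↥(pairK F) := (R : Subgroup ↥(pairK F))
  set s : R' := ⟨diagK F (diag2 1 d), hR ⟨_, ⟨1, one_mem _, d, hdT, Or.inl rfl⟩, rfl⟩⟩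
  set w : R' := ⟨diagK F (anti2 1 (-1)), hR ⟨_, ⟨1, one_mem _, -1, hneg, Or.inr rfl⟩, rfl⟩⟩
  have hdR : ∀ r : R', pairDet F r.1 ∈ (T : Subgroup Fˣ) := fun r =>
    hTle (R'.map (pairDet F)) (R.isPGroup'.map _) ⟨r.1, r.2, rfl⟩
  -- the determinant one part
  let S0 := R'.comap (slPair F)
  have hS0p : IsPGroup 2 S0 := R.isPGroup'.comap_of_injective _ slPair_injective
  -- orders
  have hTcard : Nat.card (T : Subgroup Fˣ) = 2 ^ padicValNat 2 (Fintype.card F - 1) := by
    rw [Sylow.card_eq_multiplicity, LinGroup.card_units_eq_sub_one,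
      Nat.factorization_def _ Nat.prime_two]
  have hKcard : (Nat.card ↥(pairK F)).factorization 2 =
      L + L + padicValNat 2 (Fintype.card F - 1) := by
    have hsurj : Function.Surjective (pairDet F) := fun c =>
      ⟨diagK F (diag2 1 c), Units.ext (by
        rw [pairDet_coe]
        show (!![((1 : Fˣ) : F), 0; 0, (c : F)]).det = _
        simp [Matrix.det_fin_two])⟩
    rw [← (pairDet F).ker.card_mul_index, Subgroup.index_ker, MonoidHom.range_eq_top.2 hsurj,
      Subgroup.card_top, ← range_slPair, ← Nat.card_congr (MonoidHom.ofInjective slPair_injective).toEquiv,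
      Nat.card_prod, Nat.factorization_mul (mul_ne_zero Nat.card_pos.ne' Nat.card_pos.ne') Nat.card_pos.ne',
      Nat.factorization_mul Nat.card_pos.ne' Nat.card_pos.ne', Finsupp.add_apply, Finsupp.add_apply,
      fact_SL2 hF, LinGroup.card_units_eq_sub_one, Nat.factorization_def _ Nat.prime_two]
  have hRcard : Nat.card R' = 2 ^ (L + L + padicValNat 2 (Fintype.card F - 1)) := by
    rw [← hKcard]; exact R.card_eq_multiplicity
  have hS0 : ∀ S : Sylow 2 (SpecialLinearGroup (Fin 2) F × SpecialLinearGroup (Fin 2) F),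
      S0 ≤ (S : Subgroup _) → S0 = (S : Subgroup _) := by
    intro S hle
    refine Subgroup.eq_of_le_of_card_ge hle ?_
    rw [S.card_eq_multiplicity, Nat.card_prod, Nat.factorization_mul Nat.card_pos.ne' Nat.card_pos.ne',
      Finsupp.add_apply, fact_SL2 hF]
    let χ := (pairDet F).comp R'.subtype
    have h1 := χ.ker.card_mul_index
    rw [Subgroup.index_ker, hRcard] at h1
    have h2 : Nat.card χ.range ≤ 2 ^ padicValNat 2 (Fintype.card F - 1) := by
      rw [← hTcard]
      refine Subgroup.card_le_of_le ?_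
      rintro _ ⟨r, rfl⟩; exact hdR r
    have h3 : Nat.card χ.ker ≤ Nat.card S0 := by
      have hmem : ∀ x : χ.ker, ∃ y : S0, slPair F y.1 = x.1.1 := fun x => by
        have : x.1.1 ∈ (slPair F).range := by rw [range_slPair]; exact x.2
        obtain ⟨y, hy⟩ := this
        exact ⟨⟨y, show slPair F y ∈ R' by rw [hy]; exact x.1.2⟩, hy⟩
      choose f hf using hmem
      exact Nat.card_le_card_of_injective f fun a b h =>
        Subtype.ext (Subtype.ext (by rw [← hf a, ← hf b, h]))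
    have h4 := Nat.mul_le_mul h3 h2
    rw [h1, pow_add] at h4
    exact Nat.le_of_mul_le_mul_right h4 (pow_pos two_pos _)
  obtain ⟨S, hS⟩ := hS0p.exists_le_sylow
  have hS0sq : SqComm S0 := (sqComm_sylow_SL2_sq hF S).of_equiv (MulEquiv.subgroupCongr (hS0 S hS).symm)
  -- the image
  set D := R'.map (pairHom F)
  let π : R' →* D := (pairHom F).subgroupMap R'
  have hπ : Function.Surjective π := MonoidHom.subgroupMap_surjective _ _
  have hD : SqComm D := by
    refine sqComm_iff.2 fun y => ?_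
    obtain ⟨x, rfl⟩ := hπ y
    let f : R' →* Abelianization D := Abelianization.of.comp π
    show f x ^ 2 = 1
    obtain ⟨i, hi⟩ := Subgroup.mem_zpowers_iff.1 (hTmem _ (hdR x))
    have hsdet : pairDet F s.1 = d := Units.ext (by
      rw [pairDet_coe]
      show (!![((1 : Fˣ) : F), 0; 0, (d : F)]).det = _
      simp [Matrix.det_fin_two])
    have hker : (x * (s ^ i)⁻¹).1 ∈ (slPair F).range := by
      rw [range_slPair, MonoidHom.mem_ker, Subgroup.coe_mul, map_mul, Subgroup.coe_inv,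
        SubgroupClass.coe_zpow, map_inv, map_zpow, hsdet, hi, mul_inv_cancel]
    obtain ⟨n, hn⟩ := hker
    have hnS : n ∈ S0 := show slPair F n ∈ R' by rw [hn]; exact (x * (s ^ i)⁻¹).2
    let ι : S0 →* R' := ((slPair F).comp S0.subtype).codRestrict R' fun y => y.2
    have hx : x = ι ⟨n, hnS⟩ * s ^ i := by
      rw [show ι ⟨n, hnS⟩ = x * (s ^ i)⁻¹ from Subtype.ext hn, inv_mul_cancel_right]
    have hsc : s ^ 2 = ⟨diagK F (diag2 d d), hR ⟨_, ⟨d, hdT, d, hdT, Or.inl rfl⟩, rfl⟩⟩ * ⁅s, w⁆ := by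
      apply Subtype.ext
      show diagK F (diag2 1 d) ^ 2 = diagK F (diag2 d d) *
        ⁅diagK F (diag2 1 d), diagK F (anti2 1 (-1))⁆
      rw [commutatorElement_def, ← map_inv, ← map_inv, ← map_mul, ← map_mul, ← map_mul, ← map_mul,
        ← map_pow, pow_two, diag2_inv, anti2_inv, diag2_mul_diag2, diag2_mul_anti2, anti2_mul_diag2,
        anti2_mul_anti2, diag2_mul_diag2]
      congr 1
      congr 1 <;> simp
    have hz : π ⟨diagK F (diag2 d d), hR ⟨_, ⟨d, hdT, d, hdT, Or.inl rfl⟩, rfl⟩⟩ = 1 := by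
      apply Subtype.ext
      apply Subtype.ext
      apply Units.ext
      refine Matrix.ext_of_mulVec_single fun j => ?_
      show ((pairHom F (diagPair (diag2 d d)) : GL (Fin 8) F) : Matrix (Fin 8) (Fin 8) F) *ᵥ _ =
        (1 : Matrix (Fin 8) (Fin 8) F) *ᵥ _
      rw [pairHom_mulVec, Matrix.one_mulVec]
      have hinv : ((diag2 d d)⁻¹ : GL (Fin 2) F) = diag2 d⁻¹ d⁻¹ := diag2_inv d d
      refine pair_ext ?_ ?_
      · rw [quat_pairLin]
        show ((diag2 d d : GL (Fin 2) F) : Matrix (Fin 2) (Fin 2) F) * _ *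
          (((diag2 d d)⁻¹ : GL (Fin 2) F) : Matrix (Fin 2) (Fin 2) F) = _
        rw [hinv]
        show !![(d : F), 0; 0, (d : F)] * _ * !![((d⁻¹ : Fˣ) : F), 0; 0, ((d⁻¹ : Fˣ) : F)] = _
        rw [show !![(d : F), 0; 0, (d : F)] = (d : F) • (1 : Matrix (Fin 2) (Fin 2) F) by
            ext a b; fin_cases a <;> fin_cases b <;> simp,
          show !![((d⁻¹ : Fˣ) : F), 0; 0, ((d⁻¹ : Fˣ) : F)] =
              ((d⁻¹ : Fˣ) : F) • (1 : Matrix (Fin 2) (Fin 2) F) by
            ext a b; fin_cases a <;> fin_cases b <;> simp,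
          Matrix.smul_mul, Matrix.mul_smul, Matrix.one_mul, Matrix.mul_one, smul_smul,
          Units.inv_mul, one_smul]
      · rw [perp_pairLin]
        show ((diag2 d d : GL (Fin 2) F) : Matrix (Fin 2) (Fin 2) F) * _ *
          (((diag2 d d)⁻¹ : GL (Fin 2) F) : Matrix (Fin 2) (Fin 2) F) = _
        rw [hinv]
        show !![(d : F), 0; 0, (d : F)] * _ * !![((d⁻¹ : Fˣ) : F), 0; 0, ((d⁻¹ : Fˣ) : F)] = _
        rw [show !![(d : F), 0; 0, (d : F)] = (d : F) • (1 : Matrix (Fin 2) (Fin 2) F) by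
            ext a b; fin_cases a <;> fin_cases b <;> simp,
          show !![((d⁻¹ : Fˣ) : F), 0; 0, ((d⁻¹ : Fˣ) : F)] =
              ((d⁻¹ : Fˣ) : F) • (1 : Matrix (Fin 2) (Fin 2) F) by
            ext a b; fin_cases a <;> fin_cases b <;> simp,
          Matrix.smul_mul, Matrix.mul_smul, Matrix.one_mul, Matrix.mul_one, smul_smul,
          Units.inv_mul, one_smul]
    have hfs : f s ^ 2 = 1 := by
      rw [← map_pow, hsc, map_mul, map_commutatorElement, MonoidHom.comp_apply, hz, map_one, one_mul]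
      exact commutatorElement_eq_one_iff_mul_comm.2 (mul_comm _ _)
    rw [hx, map_mul, mul_pow, show f (ι ⟨n, hnS⟩) ^ 2 = 1 from hS0sq.sq_of (π.comp ι) _, one_mul,
      map_zpow, ← zpow_natCast, ← _root_.zpow_mul, mul_comm, _root_.zpow_mul, zpow_natCast, hfs, _root_.one_zpow]
  -- size
  have hDp : IsPGroup 2 D := R.isPGroup'.map _
  have hker : Nat.card π.ker ≤ 2 ^ padicValNat 2 (Fintype.card F - 1) := by
    rw [← hTcard]
    have hc : ∀ x : π.ker, ∃ c : Fˣ, x.1.1 = diagK F (diag2 c c) := fun x => by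
      refine eq_of_pairHom_eq_one ?_
      exact congrArg Subtype.val (MonoidHom.mem_ker.1 x.2)
    choose c hc using hc
    have hcT : ∀ x, c x ∈ (T : Subgroup Fˣ) := fun x => by
      refine hTle (Subgroup.zpowers (c x)) ?_ (Subgroup.mem_zpowers _)
      obtain ⟨k, hk⟩ := R.isPGroup' x.1
      have hck : c x ^ 2 ^ k = 1 := by
        have h' := congrArg Subtype.val hk
        rw [SubmonoidClass.coe_pow, hc, ← map_pow] at h'
        have h'' := congrArg (fun p : ↥(pairK F) => (p.1.1 : Matrix (Fin 2) (Fin 2) F) 0 0) h'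
        have hdp : ∀ n : ℕ, diag2 (c x) (c x) ^ n = diag2 (c x ^ n) (c x ^ n) := fun n => by
          induction n with
          | zero => rw [pow_zero, pow_zero, diag2_one]
          | succ n ih => rw [pow_succ, ih, diag2_mul_diag2, ← pow_succ]
        rw [hdp] at h''
        exact Units.ext (by simpa [diagK, diagPair, diag2] using h'')
      intro y
      obtain ⟨i, hi⟩ := Subgroup.mem_zpowers_iff.1 y.2
      refine ⟨k, Subtype.ext ?_⟩
      rw [SubmonoidClass.coe_pow, ← hi, ← zpow_natCast, ← _root_.zpow_mul, mul_comm, _root_.zpow_mul, zpow_natCast,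
        hck, _root_.one_zpow]
      rfl
    refine Nat.card_le_card_of_injective (fun x => (⟨c x, hcT x⟩ : (T : Subgroup Fˣ))) fun a b h => ?_
    have h' : c a = c b := congrArg Subtype.val h
    exact Subtype.ext (Subtype.ext (by rw [hc a, hc b, h']))
  have hDge : 2 ^ (L + L) ≤ Nat.card D := by
    have h1 := π.ker.card_mul_index
    rw [Subgroup.index_ker, MonoidHom.range_eq_top.2 hπ, Subgroup.card_top, hRcard, pow_add] at h1
    have h2 := Nat.mul_le_mul_right (Nat.card D) hker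
    rw [h1, mul_comm (2 ^ padicValNat 2 (Fintype.card F - 1))] at h2
    exact Nat.le_of_mul_le_mul_right h2 (pow_pos two_pos _)
  obtain ⟨P', hP'⟩ := hDp.exists_le_sylow
  have hDP : D = (P' : Subgroup ↥(Cfsg.Lie.G2 F)) := by
    refine Subgroup.eq_of_le_of_card_ge hP' (le_trans ?_ hDge)
    rw [P'.card_eq_multiplicity]
    refine Nat.pow_le_pow_right two_pos ?_
    have := fact_G2_le hF
    omega
  exact (hD.of_equiv (MulEquiv.subgroupCongr hDP)).of_equiv (P'.equiv P)

end Cfsg.Agent.Lib.ZornG2
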